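import Mathlib
import Groth.Agent.CotTLib.SmoothField
import Groth.Agent.RegUFD.Basic

/-!
Logarithmic differentials in the function field of a smooth local algebra over a field of
characteristic zero: a logarithmic differential with at worst logarithmic poles along given primes
is, up to a unit, a combination of their logarithmic differentials.
-/

universe u

noncomputable section

namespace Groth.Agent.H44Dlog

set_option linter.unusedSectionVars false

open KaehlerDifferential TensorProduct

/-- A prime element of a local ring smooth over a perfect field has a non-vanishing differential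
at the generic point of its divisor. -/
theorem exists_functional {k R : Type u} [Field k] [PerfectField k] [CommRing R] [IsDomain R]
    [IsLocalRing R] [Algebra k R] [Algebra.EssFiniteType k R] [Algebra.FormallySmooth k R]
    {q : R} (hq : Prime q) : ∃ ψ : Ω[R⁄k] →ₗ[R] R, ¬ q ∣ ψ (D k R q) := by
  have hP : (Ideal.span {q}).IsPrime := (Ideal.span_singleton_prime hq.ne_zero).2 hq
  let S := Localization.AtPrime (Ideal.span {q})
  let κ := IsLocalRing.ResidueField S
  have : Algebra.FormallySmooth R S :=
    Algebra.FormallySmooth.of_isLocalization (Ideal.span {q}).primeCompl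
  have : Algebra.FormallySmooth k S := Algebra.FormallySmooth.comp k R S
  have : Algebra.EssFiniteType R S :=
    Algebra.EssFiniteType.of_isLocalization S (Ideal.span {q}).primeCompl
  have : Algebra.EssFiniteType k S := Algebra.EssFiniteType.comp k R S
  have : Algebra.EssFiniteType k κ := Algebra.EssFiniteType.comp k S κ
  have hsurj : Function.Surjective (algebraMap S κ) := IsLocalRing.residue_surjective
  obtain ⟨l, hl⟩ := (Algebra.FormallySmooth.iff_split_injection (R := k) hsurj).1
    (inferInstance : Algebra.FormallySmooth k κ)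
  have hmem : algebraMap R S q ∈ RingHom.ker (algebraMap S κ) := by
    rw [RingHom.mem_ker, IsLocalRing.ResidueField.algebraMap_eq, IsLocalRing.residue_eq_zero_iff,
      ← IsLocalization.AtPrime.map_eq_maximalIdeal (Ideal.span {q}) S]
    exact Ideal.mem_map_of_mem _ (Ideal.mem_span_singleton_self q)
  -- `q` is not in the square of the maximal ideal of `S`
  have hsq : algebraMap R S q ∉ RingHom.ker (algebraMap S κ) ^ 2 := by
    intro h
    rw [IsLocalRing.ResidueField.algebraMap_eq, IsLocalRing.ker_residue,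
      ← IsLocalization.AtPrime.map_eq_maximalIdeal (Ideal.span {q}) S, ← Ideal.map_pow,
      IsLocalization.algebraMap_mem_map_algebraMap_iff (Ideal.span {q}).primeCompl] at h
    obtain ⟨s, hs, hsq'⟩ := h
    rw [Ideal.span_singleton_pow, Ideal.mem_span_singleton] at hsq'
    obtain ⟨a, ha⟩ := hsq'
    have : s = q * a := by
      apply mul_right_cancel₀ hq.ne_zero
      rw [ha]; ring
    exact hs (Ideal.mem_span_singleton.2 ⟨a, this⟩)
  -- hence its differential is non-zero in the fibre
  have hne : (1 : κ) ⊗ₜ[S] D k S (algebraMap R S q) ≠ 0 := by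
    intro h0
    have h1 := LinearMap.congr_fun hl (Ideal.toCotangent _ ⟨algebraMap R S q, hmem⟩)
    rw [LinearMap.comp_apply, kerCotangentToTensor_toCotangent, h0, map_zero,
      LinearMap.id_apply, eq_comm, Ideal.toCotangent_eq_zero] at h1
    exact hsq h1
  have : Module.Free R Ω[R⁄k] := Module.free_of_flat_of_isLocalRing
  let b := Module.Free.chooseBasis R Ω[R⁄k]
  by_contra hcon
  simp only [not_exists, not_not] at hcon
  apply hne
  obtain ⟨ω, hω⟩ : ∃ ω, D k R q = q • ω := by
    choose a ha using fun i => hcon (b.coord i)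
    refine ⟨∑ i, a i • b i, ?_⟩
    conv_lhs => rw [← b.sum_repr (D k R q)]
    rw [Finset.smul_sum]
    refine Finset.sum_congr rfl fun i _ => ?_
    rw [← mul_smul, ← ha i, Module.Basis.coord_apply]
  rw [← KaehlerDifferential.map_D k k R S, hω, LinearMap.map_smul,
    ← algebraMap_smul S q (KaehlerDifferential.map k k R S ω), TensorProduct.tmul_smul,
    ← algebraMap_smul κ (algebraMap R S q) ((1 : κ) ⊗ₜ[S] _)]
  rw [RingHom.mem_ker.1 hmem, zero_smul]

variable {k R K : Type u} [Field k] [CommRing R] [Algebra k R] [Field K] [Algebra R K]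
  [Algebra k K] [IsScalarTower k R K]

/-- The logarithmic differential. -/
def dlog (x : K) : Ω[K⁄k] := x⁻¹ • D k K x

theorem dlog_mul {x y : K} (hx : x ≠ 0) (hy : y ≠ 0) :
    dlog (k := k) (x * y) = dlog x + dlog y := by
  simp only [dlog, Derivation.leibniz, smul_add, smul_smul]
  rw [add_comm]
  congr 2 <;> field_simp

theorem dlog_one : dlog (k := k) (1 : K) = 0 := by simp [dlog]

theorem dlog_inv {x : K} (hx : x ≠ 0) : dlog (k := k) x⁻¹ = - dlog x := by
  have h := dlog_mul (k := k) hx (inv_ne_zero hx)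
  rw [mul_inv_cancel₀ hx, dlog_one] at h
  exact (neg_eq_of_add_eq_zero_right h.symm).symm

variable (k K) in
/-- The logarithmic differential of the image of an element of `R`. -/
def dlogA (x : R) : Ω[K⁄k] := dlog (algebraMap R K x)

variable [IsDomain R] [IsFractionRing R K]

theorem algebraMap_ne_zero {x : R} (hx : x ≠ 0) : algebraMap R K x ≠ 0 := fun h =>
  hx (IsFractionRing.injective R K (by rw [h, map_zero]))

theorem dlogA_mul {x y : R} (hx : x ≠ 0) (hy : y ≠ 0) :
    dlogA k K (x * y) = dlogA k K x + dlogA k K y := by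
  rw [dlogA, map_mul, dlog_mul (algebraMap_ne_zero hx) (algebraMap_ne_zero hy)]; rfl

theorem dlogA_units_inv (v : Rˣ) : dlogA k K ((v⁻¹ : Rˣ) : R) = - dlogA k K (v : R) := by
  rw [eq_neg_iff_add_eq_zero, ← dlogA_mul (Units.ne_zero _) (Units.ne_zero _),
    Units.inv_mul, dlogA, map_one, dlog_one]

/-- The chosen representative of the associates class of an element. -/
def rep (q : R) : R := Quotient.out (Associates.mk q)

theorem rep_associated (q : R) : Associated (rep q) q :=
  Quotient.exact (Quotient.out_eq (Associates.mk q))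

theorem rep_eq_of_associated {q q' : R} (h : Associated q q') : rep q = rep q' := by
  rw [rep, rep, Associates.mk_eq_mk_iff_associated.2 h]

theorem rep_rep (q : R) : rep (rep q) = rep q := rep_eq_of_associated (rep_associated q)

theorem exists_decomposition [UniqueFactorizationMonoid R] (a : R) (ha : a ≠ 0) :
    ∃ (v : Rˣ) (m : R →₀ ℤ), (∀ q ∈ m.support, Prime q ∧ rep q = q) ∧
      dlogA k K a = dlogA k K (v : R) + m.sum (fun q n => n • dlogA k K q) := by
  revert ha
  refine UniqueFactorizationMonoid.induction_on_prime a (fun h => absurd rfl h) ?_ ?_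
  · intro u hu _
    exact ⟨hu.unit, 0, by simp, by simp⟩
  · intro x q hx hq ih _
    obtain ⟨v, m, hm, he⟩ := ih hx
    obtain ⟨w, hw⟩ := rep_associated q
    have hr : Prime (rep q) := (rep_associated q).symm.prime hq
    refine ⟨v * w, m + Finsupp.single (rep q) 1, fun s hs => ?_, ?_⟩
    · classical
      rcases Finset.mem_union.1 (Finsupp.support_add hs) with hs | hs
      · exact hm s hs
      · rw [Finset.mem_singleton.1 (Finsupp.support_single_subset hs)]
        exact ⟨hr, rep_rep q⟩
    · classical
      rw [Finsupp.sum_add_index' (h := fun s n => n • dlogA k K s) (fun _ => zero_smul ℤ _)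
          (fun _ _ _ => add_smul _ _ _),
        Finsupp.sum_single_index (h := fun s n => n • dlogA k K s) (zero_smul ℤ _), one_smul,
        dlogA_mul hq.ne_zero hx, he, Units.val_mul, dlogA_mul v.ne_zero w.ne_zero]
      have hq' : dlogA k K q = dlogA k K (rep q) + dlogA k K (w : R) := by
        conv_lhs => rw [← hw]
        exact dlogA_mul hr.ne_zero w.ne_zero
      rw [hq']
      abel

/-- Elements of the fraction field without pole along the prime `q`. -/
def NoPole (q : R) (x : K) : Prop :=
  ∃ s : R, ¬ q ∣ s ∧ ∃ a : R, x * algebraMap R K s = algebraMap R K a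

theorem noPole_algebraMap {q : R} (hq : Prime q) (a : R) : NoPole q (algebraMap R K a) :=
  ⟨1, fun h => hq.not_isUnit (isUnit_of_dvd_one h), a, by rw [map_one, mul_one]⟩

theorem NoPole.add {q : R} (hq : Prime q) {x y : K} (hx : NoPole q x) (hy : NoPole q y) :
    NoPole q (x + y) := by
  obtain ⟨s, hs, a, ha⟩ := hx
  obtain ⟨t, ht, b, hb⟩ := hy
  refine ⟨s * t, fun h => (hq.dvd_or_dvd h).elim hs ht, a * t + b * s, ?_⟩
  simp only [map_mul, map_add]
  linear_combination (algebraMap R K t) * ha + (algebraMap R K s) * hb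

theorem NoPole.mul_left {q : R} {x : K} (c : R) (hx : NoPole q x) :
    NoPole q (algebraMap R K c * x) := by
  obtain ⟨s, hs, a, ha⟩ := hx
  exact ⟨s, hs, c * a, by rw [map_mul, ← ha]; ring⟩

theorem NoPole.sum {q : R} (hq : Prime q) {ι : Type*} (s : Finset ι) (x : ι → K)
    (h : ∀ i ∈ s, NoPole q (x i)) : NoPole q (∑ i ∈ s, x i) := by
  classical
  induction s using Finset.induction_on with
  | empty => simpa using noPole_algebraMap (K := K) hq 0
  | insert i t hi ih =>
    rw [Finset.sum_insert hi]
    exact (h i (Finset.mem_insert_self i t)).add hq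
      (ih fun j hj => h j (Finset.mem_insert_of_mem hj))

theorem noPole_inv_mul {q : R} {d : R} (hd : ¬ q ∣ d) (a : R) :
    NoPole q ((algebraMap R K d)⁻¹ * algebraMap R K a) :=
  ⟨d, hd, a, by
    rw [mul_comm, ← mul_assoc,
      mul_inv_cancel₀ (algebraMap_ne_zero fun h => hd (by rw [h]; exact dvd_zero q)), one_mul]⟩

/-- If a logarithmic differential has no pole along a prime then the exponent of that prime
vanishes. -/
theorem exponent_eq_zero [CharZero k] [IsLocalRing R] [Algebra.EssFiniteType k R]
    [Algebra.FormallySmooth k R]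
    (v : Rˣ) (m : R →₀ ℤ) (hm : ∀ q ∈ m.support, Prime q ∧ rep q = q)
    {r : ℕ} (f : Fin r → R) (hf : ∀ i, Prime (f i)) (η : Ω[R⁄k]) (c : Fin r → R)
    (h : dlogA k K (v : R) + m.sum (fun q n => n • dlogA k K q) =
      KaehlerDifferential.map k k R K η + ∑ i, algebraMap R K (c i) • dlogA k K (f i))
    {q : R} (hqm : q ∈ m.support) : ∃ i, Associated (f i) q := by
  classical
  by_contra hno
  simp only [not_exists] at hno
  obtain ⟨hq, hqrep⟩ := hm q hqm
  obtain ⟨ψ, hψ⟩ := exists_functional (k := k) hq
  have : IsScalarTower R R K := inferInstance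
  have hloc : IsLocalizedModule (nonZeroDivisors R) (KaehlerDifferential.map k k R K) :=
    KaehlerDifferential.isLocalizedModule_map k R K (nonZeroDivisors R)
  let Ψ : Ω[K⁄k] →ₗ[R] K := IsLocalizedModule.lift (nonZeroDivisors R)
    (KaehlerDifferential.map k k R K) ((Algebra.linearMap R K).comp ψ) (fun x => by
      rw [Module.End.isUnit_iff]
      have hx : (algebraMap R K (x : R)) ≠ 0 := algebraMap_ne_zero (nonZeroDivisors.coe_ne_zero x)
      refine ⟨fun a b hab => ?_, fun a => ⟨(algebraMap R K (x : R))⁻¹ * a, ?_⟩⟩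
      · simpa [Algebra.smul_def, hx] using hab
      · simp [Algebra.smul_def, hx])
  have hΨ : ∀ ω, Ψ (KaehlerDifferential.map k k R K ω) = algebraMap R K (ψ ω) := fun ω => by
    simp [Ψ, IsLocalizedModule.lift_apply]
  let ΨK : Ω[K⁄k] →ₗ[K] K := Ψ.extendScalarsOfIsLocalization (nonZeroDivisors R) K
  have hΨK : ∀ ω, ΨK ω = Ψ ω := fun ω => rfl
  have hdl : ∀ x : R, ΨK (dlogA k K x) = (algebraMap R K x)⁻¹ * algebraMap R K (ψ (D k R x)) := by
    intro x
    rw [dlogA, dlog, map_smul, smul_eq_mul, hΨK, ← KaehlerDifferential.map_D k k R K, hΨ]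
  have h' := congrArg ΨK h
  rw [map_add, map_add, map_finsuppSum, map_sum, hΨK (KaehlerDifferential.map k k R K η), hΨ,
    Finsupp.sum, ← Finset.add_sum_erase _ _ hqm] at h'
  simp only [map_zsmul, map_smul, hdl, smul_eq_mul] at h'
  -- isolate the term at `q`
  have hpole : NoPole q ((m q) • ((algebraMap R K q)⁻¹ * algebraMap R K (ψ (D k R q)))) := by
    have e : (m q) • ((algebraMap R K q)⁻¹ * algebraMap R K (ψ (D k R q))) =
        (algebraMap R K (ψ η) +
          ∑ i, algebraMap R K (c i) * ((algebraMap R K (f i))⁻¹ * algebraMap R K (ψ (D k R (f i))))) +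
        (algebraMap R K (-1) * ((algebraMap R K (v : R))⁻¹ * algebraMap R K (ψ (D k R (v : R)))) +
          ∑ s ∈ m.support.erase q, algebraMap R K (-(m s : R)) *
            ((algebraMap R K s)⁻¹ * algebraMap R K (ψ (D k R s)))) := by
      simp only [map_neg, map_intCast, map_one, neg_mul, one_mul, Finset.sum_neg_distrib]
      simp only [zsmul_eq_mul] at h' ⊢
      linear_combination h'
    rw [e]
    refine ((noPole_algebraMap hq _).add hq (NoPole.sum hq _ _ fun i _ => ?_)).add hq
      ((NoPole.mul_left _ (noPole_inv_mul ?_ _)).add hq (NoPole.sum hq _ _ fun s hs => ?_))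
    · exact NoPole.mul_left _ (noPole_inv_mul (fun hd => hno i
        (hq.associated_of_dvd (hf i) hd).symm) _)
    · exact fun hd => hq.not_isUnit (isUnit_of_dvd_unit hd v.isUnit)
    · obtain ⟨hsq, hsm⟩ := Finset.mem_erase.1 hs
      refine NoPole.mul_left _ (noPole_inv_mul (fun hd => hsq ?_) _)
      obtain ⟨hs1, hs2⟩ := hm s hsm
      rw [← hs2, ← hqrep]
      exact (rep_eq_of_associated (hq.associated_of_dvd hs1 hd)).symm
  obtain ⟨s, hs, a, ha⟩ := hpole
  have hmq : (m q : k) ≠ 0 := Int.cast_ne_zero.2 (Finsupp.mem_support_iff.1 hqm)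
  have hu : IsUnit (m q : R) := by
    rw [← map_intCast (algebraMap k R)]
    exact (IsUnit.mk0 _ hmq).map _
  have e : (m q : R) * ψ (D k R q) * s = q * a := by
    apply IsFractionRing.injective R K
    have hq0 := algebraMap_ne_zero (K := K) hq.ne_zero
    simp only [map_mul, map_intCast]
    rw [← ha, zsmul_eq_mul]
    field_simp
  rcases hq.dvd_or_dvd (⟨a, e⟩ : q ∣ (m q : R) * ψ (D k R q) * s) with h1 | h1
  · rcases hq.dvd_or_dvd h1 with h2 | h2
    · exact hq.not_isUnit (isUnit_of_dvd_unit h2 hu)
    · exact hψ h2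
  · exact hs h1

variable (k K) in
/-- Logarithmic differentials of units plus integral combinations of the `dlog f i`. -/
def logSubgroup {r : ℕ} (f : Fin r → R) : AddSubgroup Ω[K⁄k] where
  carrier := {ω | ∃ (v : Rˣ) (b : Fin r → ℤ), ω = dlogA k K (v : R) + ∑ i, b i • dlogA k K (f i)}
  zero_mem' := ⟨1, 0, by simp [dlogA, dlog_one]⟩
  add_mem' := by
    rintro _ _ ⟨v, b, rfl⟩ ⟨w, d, rfl⟩
    refine ⟨v * w, b + d, ?_⟩
    simp only [Pi.add_apply, add_smul, Finset.sum_add_distrib, Units.val_mul,
      dlogA_mul v.ne_zero w.ne_zero]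
    abel
  neg_mem' := by
    rintro _ ⟨v, b, rfl⟩
    refine ⟨v⁻¹, -b, ?_⟩
    simp only [Pi.neg_apply, neg_smul, Finset.sum_neg_distrib, dlogA_units_inv]
    abel

theorem exists_dlog_eq [CharZero k] [IsLocalRing R] [UniqueFactorizationMonoid R]
    [Algebra.EssFiniteType k R] [Algebra.FormallySmooth k R]
    {r : ℕ} (f : Fin r → R) (hf : ∀ i, Prime (f i)) (g : Kˣ) (η : Ω[R⁄k]) (c : Fin r → R)
    (h : dlog (g : K) =
      KaehlerDifferential.map k k R K η + ∑ i, algebraMap R K (c i) • dlogA k K (f i)) :
    dlog (g : K) ∈ logSubgroup k K f := by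
  classical
  obtain ⟨a, b, hb, hg⟩ := IsFractionRing.div_surjective R (g : K)
  have hb0 : b ≠ 0 := nonZeroDivisors.ne_zero hb
  have ha0 : a ≠ 0 := by
    rintro rfl
    exact g.ne_zero (by rw [← hg, map_zero, zero_div])
  obtain ⟨va, ma, hma, hea⟩ := exists_decomposition (k := k) (K := K) a ha0
  obtain ⟨vb, mb, hmb, heb⟩ := exists_decomposition (k := k) (K := K) b hb0
  have hm : ∀ q ∈ (ma - mb).support, Prime q ∧ rep q = q := fun q hq =>
    (Finset.mem_union.1 (Finsupp.support_sub hq)).elim (hma q) (hmb q)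
  have hg' : dlog (g : K) =
      dlogA k K ((va * vb⁻¹ : Rˣ) : R) + (ma - mb).sum (fun q n => n • dlogA k K q) := by
    rw [← hg, div_eq_mul_inv, dlog_mul (algebraMap_ne_zero ha0) (inv_ne_zero (algebraMap_ne_zero hb0)),
      dlog_inv (algebraMap_ne_zero hb0), ← dlogA, ← dlogA, hea, heb,
      Finsupp.sum_sub_index (fun _ _ _ => sub_smul _ _ _), Units.val_mul,
      dlogA_mul va.ne_zero (Units.ne_zero _), dlogA_units_inv]
    abel
  rw [hg'] at h ⊢
  refine add_mem ⟨va * vb⁻¹, 0, by simp⟩ (sum_mem fun q hq => zsmul_mem ?_ _)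
  obtain ⟨i, u, hu⟩ := exponent_eq_zero _ _ hm f hf η c h hq
  refine ⟨u, fun j => if j = i then 1 else 0, ?_⟩
  rw [← hu, dlogA_mul (hf i).ne_zero u.ne_zero, add_comm]
  simp

end Groth.Agent.H44Dlog
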